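import Mathlib.AlgebraicGeometry.Morphisms.Finite
import Mathlib.AlgebraicGeometry.Morphisms.QuasiFinite
import Mathlib.RingTheory.Ideal.Operations

/-!
# Maximal ideals of the stalk of a finite direct image
-/

set_option autoImplicit false
set_option backward.isDefEq.respectTransparency false
set_option backward.isDefEq.respectTransparency.types false
set_option linter.unusedSectionVars false

universe u

open CategoryTheory AlgebraicGeometry TopologicalSpace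

noncomputable section

namespace Groth.Agent.FinStalk2

variable {Z X : Scheme.{u}} (g : Z ⟶ X) (x : X)

/-- The stalk of the direct image. -/
abbrev C : CommRingCat.{u} := (g.base _* Z.presheaf).stalk x

/-- The map to the local ring at a point of the fibre. -/
abbrev φ (z : {z : Z // g.base z = x}) : C g x ⟶ Z.presheaf.stalk z.1 :=
  ((g.base _* Z.presheaf).stalkCongr (Inseparable.of_eq z.2)).inv ≫
    TopCat.Presheaf.stalkPushforward CommRingCat g.base Z.presheaf z.1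

theorem φ_germ (z : {z : Z // g.base z = x}) (W : X.Opens) (hx : x ∈ W) (t : Γ(Z, g ⁻¹ᵁ W)) :
    φ g x z ((g.base _* Z.presheaf).germ W x hx t) =
      Z.presheaf.germ (g ⁻¹ᵁ W) z.1 (show g.base z.1 ∈ W by rw [z.2]; exact hx) t := by
  obtain ⟨z, rfl⟩ := z
  show TopCat.Presheaf.stalkPushforward CommRingCat g.base Z.presheaf z
    (((g.base _* Z.presheaf).stalkCongr _).inv ((g.base _* Z.presheaf).germ W _ hx t)) = _
  rw [TopCat.Presheaf.stalkCongr_inv, TopCat.Presheaf.germ_stalkSpecializes_apply]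
  exact TopCat.Presheaf.stalkPushforward_germ_apply CommRingCat g.base Z.presheaf W z hx t

variable [IsFinite g] {U : X.Opens} (hU : IsAffineOpen U) (hxU : x ∈ U)

/-- A section over the affine preimage as an element of the stalk. -/
abbrev γ : Γ(Z, g ⁻¹ᵁ U) ⟶ C g x := (g.base _* Z.presheaf).germ U x hxU

include hU in
theorem exists_unit_mul (c : C g x) :
    ∃ (b : Γ(Z, g ⁻¹ᵁ U)) (v : C g x), IsUnit v ∧ γ g x hxU b = v * c := by
  obtain ⟨W, hxW, t, rfl⟩ := TopCat.Presheaf.germ_exist (F := g.base _* Z.presheaf) c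
  obtain ⟨a, hle, hxa⟩ := hU.exists_basicOpen_le (V := W) ⟨x, hxW⟩ hxU
  have hV : IsAffineOpen (g ⁻¹ᵁ U) := hU.preimage g
  let a' := (g.app U).hom a
  have he : g ⁻¹ᵁ X.basicOpen a = Z.basicOpen a' := Scheme.preimage_basicOpen g a
  have hi : g ⁻¹ᵁ X.basicOpen a ≤ g ⁻¹ᵁ U := fun z hz => X.basicOpen_le a hz
  letI : Algebra Γ(Z, g ⁻¹ᵁ U) Γ(Z, g ⁻¹ᵁ X.basicOpen a) :=
    (Z.presheaf.map (homOfLE hi).op).hom.toAlgebra
  haveI : IsLocalization.Away a' Γ(Z, g ⁻¹ᵁ X.basicOpen a) :=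
    hV.isLocalization_of_eq_basicOpen a' (homOfLE hi) he
  let t' : Γ(Z, g ⁻¹ᵁ X.basicOpen a) := Z.presheaf.map ((Opens.map g.base).map (homOfLE hle)).op t
  obtain ⟨⟨b, ⟨_, n, rfl⟩⟩, hb⟩ := IsLocalization.surj (Submonoid.powers a') t'
  refine ⟨b, γ g x hxU (a' ^ n), ?_, ?_⟩
  · rw [map_pow]
    refine IsUnit.pow n ?_
    have h1 : γ g x hxU a' = ((TopCat.Presheaf.stalkFunctor CommRingCat x).map g.c) (X.presheaf.germ U x hxU a) :=
      (TopCat.Presheaf.stalkFunctor_map_germ_apply U x hxU g.c a).symm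
    rw [h1]
    exact ((X.mem_basicOpen a x hxU).1 hxa).map _
  · have hg : (g.base _* Z.presheaf).germ (X.basicOpen a) x hxa t' =
        (g.base _* Z.presheaf).germ W x hxW t :=
      TopCat.Presheaf.germ_res_apply (g.base _* Z.presheaf) (homOfLE hle) x hxa t
    have hres : ∀ s : Γ(Z, g ⁻¹ᵁ U), (g.base _* Z.presheaf).germ (X.basicOpen a) x hxa
        (algebraMap Γ(Z, g ⁻¹ᵁ U) Γ(Z, g ⁻¹ᵁ X.basicOpen a) s) = γ g x hxU s := fun s =>
      TopCat.Presheaf.germ_res_apply (g.base _* Z.presheaf) (homOfLE (X.basicOpen_le a)) x hxa s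
    rw [← hres b, ← hb, map_mul, hres, hg, mul_comm]

include hU in
theorem isUnit_γ (b : Γ(Z, g ⁻¹ᵁ U)) (h : ∀ z, g.base z = x → z ∈ Z.basicOpen b) : IsUnit (γ g x hxU b) := by
  let K : Set X := g '' ((Z.basicOpen b : Set Z)ᶜ)
  have hK : IsClosed K := g.isClosedMap _ (Z.basicOpen b).isOpen.isClosed_compl
  have hxK : x ∉ K := fun ⟨z, hz, e⟩ => hz (h z e)
  let W : X.Opens := U ⊓ ⟨Kᶜ, hK.isOpen_compl⟩
  have hxW : x ∈ W := ⟨hxU, hxK⟩
  have hWle : g ⁻¹ᵁ W ≤ g ⁻¹ᵁ U := fun z hz => hz.1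
  have hb : IsUnit (Z.presheaf.map (homOfLE hWle).op b : Γ(Z, g ⁻¹ᵁ W)) := by
    refine Z.toRingedSpace.isUnit_of_isUnit_germ _ _ fun z hz => ?_
    have hzb : z ∈ Z.basicOpen b := by
      by_contra hc
      exact hz.2 ⟨z, hc, rfl⟩
    have e := Z.presheaf.germ_res_apply (homOfLE hWle) z hz b
    exact e.symm ▸ (Z.mem_basicOpen b z hz.1).1 hzb
  have hg : (g.base _* Z.presheaf).germ W x hxW (Z.presheaf.map (homOfLE hWle).op b) = γ g x hxU b :=
    TopCat.Presheaf.germ_res_apply (g.base _* Z.presheaf) (homOfLE (inf_le_left : W ≤ U)) x hxW b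
  rw [← hg]
  exact hb.map _

/-- The ideal of a point of the fibre. -/
abbrev P (z : {z : Z // g.base z = x}) : Ideal (C g x) :=
  Ideal.comap (φ g x z).hom (IsLocalRing.maximalIdeal (Z.presheaf.stalk z.1))

include hxU in
theorem mem_preimage (z : {z : Z // g.base z = x}) : z.1 ∈ g ⁻¹ᵁ U :=
  show g.base z.1 ∈ U by rw [z.2]; exact hxU

theorem γ_mem_P (z : {z : Z // g.base z = x}) (b : Γ(Z, g ⁻¹ᵁ U)) :
    γ g x hxU b ∈ P g x z ↔ z.1 ∉ Z.basicOpen b := by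
  rw [Ideal.mem_comap, IsLocalRing.mem_maximalIdeal, mem_nonunits_iff,
    show (φ g x z).hom (γ g x hxU b) = _ from φ_germ g x z U hxU b,
    Z.mem_basicOpen b z.1 (mem_preimage g x hxU z)]

include hU hxU in
theorem eq_of_P_le (z z' : {z : Z // g.base z = x}) (h : P g x z ≤ P g x z') : z = z' := by
  have hV : IsAffineOpen (g ⁻¹ᵁ U) := hU.preimage g
  have hs : z.1 ⤳ z'.1 := by
    refine specializes_iff_forall_open.2 fun O hO hzO => ?_
    obtain ⟨b, hb, hzb⟩ := hV.exists_basicOpen_le (V := ⟨O, hO⟩) ⟨z'.1, hzO⟩ (mem_preimage g x hxU z')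
    refine hb ?_
    by_contra hc
    exact ((γ_mem_P g x hxU z' b).1 (h ((γ_mem_P g x hxU z b).2 hc))) hzb
  exact Subtype.ext ((g.isDiscrete_preimage_singleton x).eq_of_specializes hs z.2 z'.2)

include hU hxU in
theorem exists_le_P {I : Ideal (C g x)} (hI : I ≠ ⊤) : ∃ z, I ≤ P g x z := by
  classical
  have hV : IsAffineOpen (g ⁻¹ᵁ U) := hU.preimage g
  have hfin := g.finite_preimage_singleton x
  let pr : Z → Ideal Γ(Z, g ⁻¹ᵁ U) := fun z => if h : z ∈ g ⁻¹ᵁ U then (hV.primeIdealOf ⟨z, h⟩).asIdeal else ⊤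
  have hpr : ∀ (z : Z) (h : z ∈ g ⁻¹ᵁ U) (b : Γ(Z, g ⁻¹ᵁ U)), b ∈ pr z ↔ z ∉ Z.basicOpen b := fun z h b => by
    simp only [pr, dif_pos h]
    have e : z ∈ Z.basicOpen b ↔ hV.primeIdealOf ⟨z, h⟩ ∈ hV.fromSpec ⁻¹ᵁ Z.basicOpen b := by
      show _ ↔ hV.fromSpec (hV.primeIdealOf ⟨z, h⟩) ∈ Z.basicOpen b
      rw [hV.fromSpec_primeIdealOf]
    rw [e, hV.fromSpec_preimage_basicOpen]
    exact (not_not (a := b ∈ (hV.primeIdealOf ⟨z, h⟩).asIdeal)).symm
  have hne : hfin.toFinset.Nonempty := by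
    by_contra hemp
    refine hI ((Ideal.eq_top_iff_one _).2 ?_)
    have h1 : IsUnit (γ g x hxU 0) := isUnit_γ g x hU hxU 0 fun z hz =>
      absurd ⟨z, hfin.mem_toFinset.2 hz⟩ hemp
    rw [map_zero, isUnit_zero_iff] at h1
    rw [← h1]
    exact I.zero_mem
  let J : Ideal Γ(Z, g ⁻¹ᵁ U) := I.comap (γ g x hxU).hom
  have hsub : (J : Set Γ(Z, g ⁻¹ᵁ U)) ⊆ ⋃ z ∈ (hfin.toFinset : Set Z), (pr z : Set Γ(Z, g ⁻¹ᵁ U)) := fun b hb => by
    obtain ⟨z, hz, hzb⟩ : ∃ z, g.base z = x ∧ z ∉ Z.basicOpen b := by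
      by_contra hc
      push Not at hc
      exact hI (I.eq_top_of_isUnit_mem hb (isUnit_γ g x hU hxU b hc))
    exact Set.mem_biUnion (hfin.mem_toFinset.2 hz) ((hpr z (mem_preimage g x hxU ⟨z, hz⟩) b).2 hzb)
  obtain ⟨a, ha⟩ := hne
  obtain ⟨z, hz, hJ⟩ := (Ideal.subset_union_prime a a fun z hz _ _ => by
    have h : z ∈ g ⁻¹ᵁ U := mem_preimage g x hxU ⟨z, hfin.mem_toFinset.1 hz⟩
    simp only [pr, dif_pos h]
    infer_instance).1 hsub
  refine ⟨⟨z, hfin.mem_toFinset.1 hz⟩, fun c hc => ?_⟩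
  obtain ⟨b, v, hv, hb⟩ := exists_unit_mul g x hU hxU c
  have hbJ : b ∈ J := by
    show γ g x hxU b ∈ I
    rw [hb]
    exact I.mul_mem_left v hc
  have h2 : γ g x hxU b ∈ P g x ⟨z, hfin.mem_toFinset.1 hz⟩ := (γ_mem_P g x hxU _ b).2
    ((hpr z (mem_preimage g x hxU ⟨z, hfin.mem_toFinset.1 hz⟩) b).1 (hJ hbJ))
  rw [hb] at h2
  obtain ⟨v, rfl⟩ := hv
  exact (Ideal.unit_mul_mem_iff_mem _ v.isUnit).1 h2

include hU hxU in
theorem bijOn : Set.BijOn (P g x) Set.univ {I : Ideal (C g x) | I.IsMaximal} := by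
  refine ⟨fun z _ => ?_, fun z _ z' _ h => eq_of_P_le g x hU hxU z z' h.le, fun I hI => ?_⟩
  · show (P g x z).IsMaximal
    obtain ⟨M, hM, hle⟩ := Ideal.exists_le_maximal (P g x z) (Ideal.comap_ne_top _ (IsLocalRing.maximalIdeal.isMaximal _).ne_top)
    obtain ⟨z', hz'⟩ := exists_le_P g x hU hxU hM.ne_top
    have hzz : z = z' := eq_of_P_le g x hU hxU z z' (hle.trans hz')
    have : P g x z = M := le_antisymm hle (hzz ▸ hz')
    rw [this]; exact hM
  · obtain ⟨z, hz⟩ := exists_le_P g x hU hxU (Ideal.IsMaximal.ne_top hI)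
    exact ⟨z, trivial, (Ideal.IsMaximal.eq_of_le hI (Ideal.comap_ne_top _ (IsLocalRing.maximalIdeal.isMaximal _).ne_top) hz).symm⟩

end Groth.Agent.FinStalk2
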